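import Groth.Agent.H16Derived.QCohD.Perfect
import Groth.Agent.H16Derived.QCohD.Affine
import Groth.Agent.H16Derived.Thomason.Glue
import Mathlib.CategoryTheory.Triangulated.Yoneda

/-!
# Countability of maps from perfect objects
-/

set_option autoImplicit false
set_option linter.style.haveILetI false

universe u

open CategoryTheory CategoryTheory.Limits CategoryTheory.Pretriangulated AlgebraicGeometry Opposite

attribute [local instance] HasDerivedCategory.standard

namespace Groth.Agent.H16Derived.CountHom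

open Groth.Agent.H16Derived.QCohD Groth.Agent.H10Coh Groth.Agent.H16Derived.KFlat.Stalk

variable {X : Scheme.{u}}

/-- Induction for cuts of perfect objects at quasi-compact opens. -/
theorem of_isPerfect_cut [CompactSpace X] [QuasiSeparatedSpace X] {P : DCoh.D X → Prop} (hP : Stable P)
    (hbase : ∀ W : X.Opens, IsAffineOpen W →
      P ((DerivedCategory.singleFunctor X.Modules 0).obj (freeSh W)))
    {K : DCoh.D X} (hK : DCoh.IsPerfect K) (S : X.Opens) (hS : IsCompact (S : Set X)) : P (cut S K) := by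
  classical
  choose A hA hmod using exists_freeModel hK
  have hqs : ∀ W : X.Opens, QuasiSeparatedSpace (W : Scheme.{u}) := fun W =>
    W.ι.isOpenEmbedding.quasiSeparatedSpace
  -- a finite cover by affine opens inside the good opens
  choose W hW hxW hWA using fun x : X => X.isBasis_affineOpens.exists_subset_of_mem_open
    (hA x) (A x).2
  have hcov : (Set.univ : Set X) ⊆ ⋃ x, W x := fun x _ => Set.mem_iUnion.2 ⟨x, hxW x⟩
  obtain ⟨t, ht⟩ := isCompact_univ.elim_finite_subcover W
    (fun x => (hW x).choose_spec.2 ▸ (hW x).choose.2) hcov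
  let U : X → X.Opens := fun x => (hW x).choose
  have hUW : ∀ x, (U x : Set X) = W x := fun x => (hW x).choose_spec.2
  have hUaff : ∀ x, IsAffineOpen (U x) := fun x => (hW x).choose_spec.1
  have hUA : ∀ x, U x ≤ A x := fun x y hy => hWA x (by rw [← hUW x]; exact hy)
  have key : ∀ s : Finset X, IsCompact ((s.sup (fun x => U x ⊓ S) : X.Opens) : Set X) ∧ P (cut (s.sup (fun x => U x ⊓ S)) K) := by
    intro s
    induction s using Finset.induction_on with
    | empty =>
      rw [Finset.sup_empty]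
      refine ⟨by simp, hP.of_isZero ?_⟩
      refine IsZero.of_iso (Functor.map_isZero DerivedCategory.Q ?_)
        ((DCoh.restrictD (⊥ : X.Opens).ι ⋙ CxOX.extZeroD (⊥ : X.Opens).ι).mapIso
          (DerivedCategory.Q.objObjPreimageIso K).symm ≪≫ MV.extZeroDIso ⊥ _)
      refine (IsZero.iff_id_eq_zero _).2 (HomologicalComplex.hom_ext _ _ fun q => ?_)
      haveI : IsIso (0 : (MV.E (⊥ : X.Opens)).obj ((DerivedCategory.Q.objPreimage K).X q) ⟶
          (MV.E (⊥ : X.Opens)).obj ((DerivedCategory.Q.objPreimage K).X q)) :=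
        isIso_of_stalk _ fun y => by
          have hz := MV.isZero_stalk_E (⊥ : X.Opens) ((DerivedCategory.Q.objPreimage K).X q) y
            (Set.notMem_empty y)
          exact isIso_of_source_target_iso_zero _ hz.isoZero hz.isoZero
      exact ((isIsoZeroEquiv ((MV.E (⊥ : X.Opens)).obj ((DerivedCategory.Q.objPreimage K).X q))
        ((MV.E (⊥ : X.Opens)).obj ((DerivedCategory.Q.objPreimage K).X q))).toFun inferInstance).1
    | insert x s hxs ih =>
      rw [Finset.sup_insert]
      have hc : IsCompact ((U x ⊓ S : X.Opens) : Set X) :=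
        QuasiSeparatedSpace.inter_isCompact _ _ (U x).2 (hUaff x).isCompact S.2 hS
      haveI := hqs (U x ⊓ S)
      haveI := hqs ((U x ⊓ S) ⊓ s.sup (fun x => U x ⊓ S))
      exact ⟨by simpa using hc.union ih.1,
        hP.cut_sup (hP.cut_of_le hbase (hmod x) (inf_le_left.trans (hUA x)) hc) ih.2
          (hP.cut_of_le hbase (hmod x) (inf_le_left.trans (inf_le_left.trans (hUA x)))
            (QuasiSeparatedSpace.inter_isCompact _ _ (U x ⊓ S).2 hc (s.sup fun x => U x ⊓ S).2 ih.1))⟩
  have htop : t.sup (fun x => U x ⊓ S) = S := by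
    refine le_antisymm (Finset.sup_le fun x _ => inf_le_right) fun y hy => ?_
    obtain ⟨x, hx, hyx⟩ := Set.mem_iUnion₂.1 (ht (Set.mem_univ y))
    exact Finset.le_sup (f := fun x => U x ⊓ S) hx ⟨by rw [← hUW x] at hyx; exact hyx, hy⟩
  exact htop ▸ (key t).2

/-- All maps into the shifts of `K` form countable sets. -/
def CH (K Z : DCoh.D X) : Prop := ∀ i : ℤ, Countable (Z ⟶ K⟦i⟧)

theorem countable_of_exact (T : Triangle (DCoh.D X)) (hT : T ∈ distTriang (DCoh.D X)) (M : DCoh.D X)
    (h₁ : Countable (T.obj₁ ⟶ M)) (h₃ : Countable (T.obj₃ ⟶ M)) : Countable (T.obj₂ ⟶ M) := by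
  classical
  let r : Set.range (fun f : T.obj₂ ⟶ M => T.mor₁ ≫ f) → (T.obj₂ ⟶ M) := fun x => x.2.choose
  have hr : ∀ x, T.mor₁ ≫ r x = x.1 := fun x => x.2.choose_spec
  refine Function.Surjective.countable
    (f := fun p : Set.range (fun f : T.obj₂ ⟶ M => T.mor₁ ≫ f) × (T.obj₃ ⟶ M) => r p.1 + T.mor₂ ≫ p.2)
    fun g => ?_
  obtain ⟨ψ, hψ⟩ := Triangle.yoneda_exact₂ _ hT (g - r ⟨T.mor₁ ≫ g, g, rfl⟩) (by
    rw [Preadditive.comp_sub, hr, sub_self])
  exact ⟨(⟨T.mor₁ ≫ g, g, rfl⟩, ψ), by simp [← hψ]⟩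

theorem stable_CH (K : DCoh.D X) : Stable (CH K) where
  of_iso e h i := @Function.Surjective.countable _ _ (h i) (fun f => e.inv ≫ f)
    fun g => ⟨e.hom ≫ g, e.inv_hom_id_assoc g⟩
  shift {Z} h n i := by
    let e : (K⟦i - n⟧)⟦n⟧ ≅ K⟦i⟧ :=
      ((shiftFunctorAdd' (DCoh.D X) (i - n) n i (by omega)).app K).symm
    haveI := h (i - n)
    refine Function.Surjective.countable (f := fun f : Z ⟶ K⟦i - n⟧ => f⟦n⟧' ≫ e.hom) fun g => ?_
    obtain ⟨f, hf⟩ := (shiftFunctor (DCoh.D X) n).map_surjective (g ≫ e.inv)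
    exact ⟨f, by simp [hf]⟩
  ext₂ T hT h₁ h₃ i := countable_of_exact T hT _ (h₁ i) (h₃ i)
  of_isZero h i := @Finite.to_countable _ (@Finite.of_subsingleton _ ⟨fun a b => h.eq_of_src a b⟩)

/-- The base case. -/
theorem CH_freeSh {K : DCoh.D X} (hK : DCoh.IsQCohD K)
    (hKc : ∀ V : X.Opens, IsAffineOpen V → ∀ i : ℤ, Countable ((DCoh.HD K i).val.obj (op V)))
    {W : X.Opens} (hW : IsAffineOpen W) :
    CH K ((DerivedCategory.singleFunctor X.Modules 0).obj (freeSh W)) := fun i => by
  let e : ((DerivedCategory.singleFunctor X.Modules i).obj (freeSh W))⟦i⟧ ≅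
      (DerivedCategory.singleFunctor X.Modules 0).obj (freeSh W) :=
    ((DerivedCategory.singleFunctors X.Modules).shiftIso i 0 i (add_zero i)).app _
  haveI : Countable ((DerivedCategory.singleFunctor X.Modules i).obj (freeSh W) ⟶ K) := by
    haveI : Countable Γ(DCoh.HD K i, W) := hKc W hW i
    haveI : Countable (freeSh W ⟶ DCoh.HD K i) := (freeShEquiv W (DCoh.HD K i)).injective.countable
    exact (bijective_θ_affine hK hW i).1.countable
  refine Function.Surjective.countable
    (f := fun f : (DerivedCategory.singleFunctor X.Modules i).obj (freeSh W) ⟶ K => e.inv ≫ f⟦i⟧') fun g => ?_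
  obtain ⟨f, hf⟩ := (shiftFunctor (DCoh.D X) i).map_surjective (e.hom ≫ g)
  exact ⟨f, by simp [hf]⟩

/-- Countability over quasi-compact opens. -/
theorem countable_hom [CompactSpace X] [QuasiSeparatedSpace X] {K : DCoh.D X} (hK : DCoh.IsQCohD K)
    (hKc : ∀ V : X.Opens, IsAffineOpen V → ∀ i : ℤ, Countable ((DCoh.HD K i).val.obj (op V)))
    {E : DCoh.D X} (hE : DCoh.IsPerfect E) (U : X.Opens) (hU : IsCompact (U : Set X)) (i : ℤ) :
    Countable ((DCoh.restrictD U.ι).obj E ⟶ ((DCoh.restrictD U.ι).obj K)⟦i⟧) := by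
  haveI := KFlat.Stalk.preservesFiniteLimits_extZero U
  haveI := of_isPerfect_cut (stable_CH K) (fun W hW => CH_freeSh hK hKc hW) hE U hU i
  let a := Thomason.extZeroRdAdj U
  let c := ((DCoh.restrictD U.ι).commShiftIso i).app K
  refine Function.Surjective.countable
    (f := fun f : cut U E ⟶ K⟦i⟧ => a.homEquiv _ _ f ≫ c.hom) fun g => ?_
  exact ⟨(a.homEquiv _ _).symm (g ≫ c.inv), by simp⟩

end Groth.Agent.H16Derived.CountHom
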