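import Groth.Agent.H16Derived.CountHom.Sections
import Groth.Agent.H16Derived.Thomason.Generator
import Groth.Agent.H16Derived.Thomason.Supp
import Groth.Agent.H16Derived.Hocolim
import Groth.Agent.S1040

/-!
# Homotopy colimits of perfect objects over countable schemes
-/

set_option autoImplicit false
set_option linter.style.haveILetI false

universe u

open CategoryTheory CategoryTheory.Limits CategoryTheory.Pretriangulated AlgebraicGeometry Opposite

attribute [local instance] HasDerivedCategory.standard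

namespace Groth.Agent.H16Derived.CountHom

open Groth.Agent.H16Derived.QCohD Groth.Agent.H10Coh Groth.Agent.H16Derived.KFlat
open Groth.Agent.H16Derived.KFlat.Stalk

attribute [local instance] Thomason.hasCoproducts_D

variable {X : Scheme.{u}} [HasColimitsOfShape (Discrete ℕ) (DCoh.D X)]

theorem isQCohD_sigma_nat (E : ℕ → DCoh.D X) (h : ∀ n, DCoh.IsQCohD (E n)) : DCoh.IsQCohD (∐ E) := by
  let e : (∐ fun n : ULift.{u} ℕ => E n.down) ≅ ∐ E := Sigma.reindex Equiv.ulift E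
  exact isQCohD_iso e (S1040.result X _ fun n : ULift.{u} ℕ => h n.down)

/-- Maps into countable sums of quasi-coherent objects have finite support. -/
theorem exists_finite_support {C : DCoh.D X}
    (hC : FinSupp.Holds.{u} (fun L : DCoh.D X => DCoh.IsQCohD L) C) (E : ℕ → DCoh.D X)
    (hE : ∀ n, DCoh.IsQCohD (E n)) (α : C ⟶ ∐ E) :
    ∃ (N : ℕ) (a : ∀ m, C ⟶ E m), (∀ m, N ≤ m → a m = 0) ∧
      α = ∑ m ∈ Finset.range N, a m ≫ Sigma.ι E m := by
  classical
  let X' : ULift.{u} ℕ → DCoh.D X := fun n => E n.down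
  let p : (∐ E) ⟶ ∐ X' := Sigma.desc fun n => Sigma.ι X' ⟨n⟩
  let q : (∐ X') ⟶ ∐ E := Sigma.desc fun n => Sigma.ι E n.down
  have hpq : p ≫ q = 𝟙 _ := Sigma.hom_ext _ _ fun n => by simp [p, q]
  obtain ⟨s, hs⟩ := hC _ X' (fun n => hE n.down) (α ≫ p)
  let N := (s.image ULift.down).sup id + 1
  have hN : ∀ k ∈ s, k.down < N := fun k hk =>
    Nat.lt_succ_of_le (Finset.le_sup (f := id) (Finset.mem_image_of_mem ULift.down hk))
  refine ⟨N, fun m => if (⟨m⟩ : ULift.{u} ℕ) ∈ s then (α ≫ p) ≫ FinSupp.proj X' ⟨m⟩ else 0,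
    fun m hm => if_neg fun h => absurd (hN _ h) (not_lt.2 hm), ?_⟩
  calc α = (α ≫ p) ≫ q := by rw [Category.assoc, hpq, Category.comp_id]
    _ = ∑ k ∈ s, (α ≫ p) ≫ FinSupp.proj X' k ≫ Sigma.ι E k.down := by
      conv_lhs => rw [← hs]
      rw [FinSupp.idem, Preadditive.comp_sum, Preadditive.sum_comp]
      refine Finset.sum_congr rfl fun k _ => ?_
      simp [q, X']
    _ = ∑ m ∈ s.image ULift.down, (if (⟨m⟩ : ULift.{u} ℕ) ∈ s then
        (α ≫ p) ≫ FinSupp.proj X' ⟨m⟩ else 0) ≫ Sigma.ι E m := by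
      rw [Finset.sum_image (fun a _ b _ h => ULift.down_injective h)]
      refine Finset.sum_congr rfl fun k hk => ?_
      rw [if_pos hk, Category.assoc (α ≫ p)]
    _ = _ := by
      refine Finset.sum_subset (fun m hm => ?_) fun m _ hm => ?_
      · obtain ⟨k, hk, rfl⟩ := Finset.mem_image.1 hm
        exact Finset.mem_range.2 (hN k hk)
      · rw [if_neg fun h => hm (Finset.mem_image.2 ⟨_, h, rfl⟩), zero_comp]

theorem countable_hom_sigma {C : DCoh.D X}
    (hC : FinSupp.Holds.{u} (fun L : DCoh.D X => DCoh.IsQCohD L) C) (E : ℕ → DCoh.D X)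
    (hE : ∀ n, DCoh.IsQCohD (E n)) (hc : ∀ n, Countable (C ⟶ E n)) : Countable (C ⟶ ∐ E) := by
  classical
  refine Function.Surjective.countable
    (f := fun p : Σ N : ℕ, ((m : Fin N) → (C ⟶ E m.val)) => ∑ m : Fin p.1, p.2 m ≫ Sigma.ι E m.val)
    fun g => ?_
  obtain ⟨N, a, -, rfl⟩ := exists_finite_support hC E hE g
  exact ⟨⟨N, fun m => a m.val⟩, Fin.sum_univ_eq_sum_range (fun m => a m ≫ Sigma.ι E m) N⟩

/-- Homotopy colimits of perfect objects have countable sections in cohomology. -/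
theorem countable_sections_of_hocolim
    (hX : ∀ U : X.Opens, IsAffineOpen U → Countable (X.presheaf.obj (op U)))
    {E : ℕ → DCoh.D X} {f : ∀ n, E n ⟶ E (n + 1)} {K : DCoh.D X} {i : ∀ n, E n ⟶ K}
    (hE : ∀ n, DCoh.IsPerfect (E n)) (hK : DerLim.IsHocolim E f K i) (hKq : DCoh.IsQCohD K)
    {V : X.Opens} (hV : IsAffineOpen V) (m : ℤ) : Countable Γ(DCoh.HD K m, V) := by
  have hq : ∀ n, DCoh.IsQCohD (E n) := fun n => Dual.isQCohD_of_isPerfect (hE n)
  have hn : ∀ (m : ℤ) n, Countable ((DerivedCategory.singleFunctor X.Modules m).obj (freeSh V) ⟶ E n) :=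
    fun m n => by
      haveI : Countable Γ(DCoh.HD (E n) m, V) := countable_sections_of_isPerfect hX (hE n) m hV
      haveI : Countable (freeSh V ⟶ DCoh.HD (E n) m) := (freeShEquiv V _).injective.countable
      exact (bijective_θ_affine (hq n) hV m).1.countable
  have hs : ∀ m : ℤ, Countable ((DerivedCategory.singleFunctor X.Modules m).obj (freeSh V) ⟶ ∐ E) :=
    fun m => countable_hom_sigma (holds_affine hV m) E hq (hn m)
  obtain ⟨c, hc⟩ := hK
  haveI : Countable ((DerivedCategory.singleFunctor X.Modules m).obj (freeSh V) ⟶ K) :=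
    countable_of_exact' _ (rot_of_distTriang _ hc) _ (hs m) (countable_single_shift 1 m (hs (m + 1)))
  haveI : Countable (freeSh V ⟶ DCoh.HD K m) := (bijective_θ_affine hKq hV m).2.countable
  exact (freeShEquiv V _).surjective.countable

variable [CompactSpace X] [QuasiSeparatedSpace X]

omit [HasColimitsOfShape (Discrete ℕ) (DCoh.D X)] in
theorem holds_perfect {C : DCoh.D X} (hC : DCoh.IsPerfect C) :
    FinSupp.Holds.{u} (fun L : DCoh.D X => DCoh.IsQCohD L) C :=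
  Thomason.holds_of_isPerfect (fun _ h => h) hC

variable {E : ℕ → DCoh.D X} {f : ∀ n, E n ⟶ E (n + 1)} {L : DCoh.D X} {i : ∀ n, E n ⟶ L}

theorem eq_zero_of_fixed (hE : ∀ n, DCoh.IsQCohD (E n)) {C : DCoh.D X} (hC : DCoh.IsPerfect C)
    (x : C ⟶ ∐ E) (hx : x ≫ DerLim.shiftMap E f = x) : x = 0 := by
  obtain ⟨N, a, hN, rfl⟩ := exists_finite_support (holds_perfect hC) E hE x
  classical
  let π (m : ℕ) : (∐ E) ⟶ E m := Sigma.desc fun k =>
    if h : k = m then eqToHom (congrArg E h) else 0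
  have hπ : ∀ m, (∑ k ∈ Finset.range N, a k ≫ Sigma.ι E k) ≫ π m = a m := by
    intro m
    rw [Preadditive.sum_comp, Finset.sum_eq_single m]
    · simp [π]
    · intro k _ hk
      simp [π, hk]
    · intro hm
      rw [Finset.mem_range, not_lt] at hm
      simp [hN m hm]
  have hz : ∀ m, a m = 0 := by
    intro m
    induction m with
    | zero =>
      rw [← hπ 0, ← hx, Category.assoc, show DerLim.shiftMap E f ≫ π 0 = 0 from
        Sigma.hom_ext _ _ fun k => by simp [DerLim.shiftMap, π], comp_zero]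
    | succ m ih =>
      rw [← hπ (m + 1), ← hx, Category.assoc, show DerLim.shiftMap E f ≫ π (m + 1) = π m ≫ f m from
        Sigma.hom_ext _ _ fun k => by
          by_cases h : k = m
          · subst h; simp [DerLim.shiftMap, π]
          · simp [DerLim.shiftMap, π, h], ← Category.assoc, hπ, ih, zero_comp]
  simp [hz]

/-- Perfect objects map into a homotopy colimit through a stage. -/
theorem exists_lift (hE : ∀ n, DCoh.IsQCohD (E n)) (hL : DerLim.IsHocolim E f L i) {C : DCoh.D X}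
    (hC : DCoh.IsPerfect C) (φ : C ⟶ L) : ∃ (n : ℕ) (a : C ⟶ E n), a ≫ i n = φ := by
  have hL' := hL
  obtain ⟨c, hc⟩ := hL'
  have h0 : φ ≫ c = 0 := by
    let e := shiftEquiv (DCoh.D X) (1 : ℤ)
    obtain ⟨x, hx⟩ := (shiftFunctor (DCoh.D X) (1 : ℤ)).map_surjective
      ((e.counitIso.app C).hom ≫ φ ≫ c)
    have hfix : x ≫ (𝟙 _ - DerLim.shiftMap E f) = 0 := by
      apply (shiftFunctor (DCoh.D X) (1 : ℤ)).map_injective
      rw [Functor.map_comp, hx, Functor.map_zero]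
      simp only [Category.assoc]
      rw [show c ≫ (shiftFunctor (DCoh.D X) (1 : ℤ)).map (𝟙 _ - DerLim.shiftMap E f) = 0 from
        comp_distTriang_mor_zero₃₁ _ hc]
      simp
    rw [Preadditive.comp_sub, Category.comp_id, sub_eq_zero] at hfix
    rw [eq_zero_of_fixed hE (isPerfect_shift hC (-1)) x hfix.symm] at hx
    erw [Functor.map_zero] at hx
    rw [← cancel_epi (e.counitIso.app C).hom, comp_zero]
    exact hx.symm
  obtain ⟨y, hy⟩ : ∃ y : C ⟶ ∐ E, φ = y ≫ Sigma.desc i := Triangle.coyoneda_exact₃ _ hc φ h0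
  obtain ⟨N, a, -, rfl⟩ := exists_finite_support (holds_perfect hC) E hE y
  refine ⟨N, ∑ m ∈ Finset.range N,
    if h : m ≤ N then a m ≫ Hocolim.tr f h else 0, ?_⟩
  rw [hy, Preadditive.sum_comp, Preadditive.sum_comp]
  refine Finset.sum_congr rfl fun m hm => ?_
  rw [dif_pos (Finset.mem_range.1 hm).le, Category.assoc, Hocolim.tr_comp hL, Category.assoc, Sigma.ι_desc]

omit [HasColimitsOfShape (Discrete ℕ) (DCoh.D X)] in
/-- Countably many maps from a perfect object. -/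
theorem countable_hom_of_isPerfect {Y : DCoh.D X} (hY : DCoh.IsQCohD Y)
    (hYc : ∀ V : X.Opens, IsAffineOpen V → ∀ i : ℤ, Countable ((DCoh.HD Y i).val.obj (op V)))
    {C : DCoh.D X} (hC : DCoh.IsPerfect C) : Countable (C ⟶ Y) := by
  haveI := (stable_CH Y).of_isPerfect (fun W hW => CH_freeSh hY hYc hW) hC 0
  exact Function.Surjective.countable
    (f := fun g : C ⟶ Y⟦(0 : ℤ)⟧ => g ≫ ((shiftFunctorZero (DCoh.D X) ℤ).app Y).hom)
    fun g => ⟨g ≫ ((shiftFunctorZero (DCoh.D X) ℤ).app Y).inv, by simp⟩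

omit [HasColimitsOfShape (Discrete ℕ) (DCoh.D X)] [CompactSpace X] [QuasiSeparatedSpace X] in
/-- Killing finitely many maps. -/
theorem exists_kill {G K : DCoh.D X} (hG : DCoh.IsPerfect G) {ι : Type} (s : Finset ι) {E : DCoh.D X}
    (hE : DCoh.IsPerfect E) (α : E ⟶ K) (x : ι → Σ n : ℤ, (G⟦n⟧ ⟶ E))
    (hx : ∀ j, (x j).2 ≫ α = 0) :
    ∃ (E' : DCoh.D X) (α' : E' ⟶ K) (g : E ⟶ E'), DCoh.IsPerfect E' ∧ g ≫ α' = α ∧
      ∀ j ∈ s, (x j).2 ≫ g = 0 := by
  classical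
  induction s using Finset.induction_on with
  | empty => exact ⟨E, α, 𝟙 E, hE, Category.id_comp α, fun j hj => absurd hj (Finset.notMem_empty j)⟩
  | insert j s hj ih =>
    obtain ⟨E', α', g, hE', hg, hs⟩ := ih
    obtain ⟨E'', p, w, hT⟩ := distinguished_cocone_triangle ((x j).2 ≫ g)
    obtain ⟨α'', hα''⟩ : ∃ α'' : E'' ⟶ K, α' = p ≫ α'' :=
      Triangle.yoneda_exact₂ _ hT α' (by
        show ((x j).2 ≫ g) ≫ α' = 0
        rw [Category.assoc, hg, hx])
    refine ⟨E'', α'', g ≫ p, isPerfect_obj₃ hT (isPerfect_shift hG _) hE',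
      by rw [Category.assoc, ← hα'', hg], fun k hk => ?_⟩
    rcases Finset.mem_insert.1 hk with rfl | hk
    · rw [← Category.assoc]
      exact comp_distTriang_mor_zero₁₂ _ hT
    · rw [← Category.assoc, hs k hk, zero_comp]

/-- A stage of the construction: a perfect object over `K` with bookkeeping of maps to be killed. -/
structure St (G K : DCoh.D X) where
  E : DCoh.D X
  perf : DCoh.IsPerfect E
  α : E ⟶ K
  q : ℕ → ℕ → {x : Σ n : ℤ, (G⟦n⟧ ⟶ E) // x.2 ≫ α = 0}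

/-- Objects with countable sections in cohomology are homotopy colimits of perfect objects. -/
theorem exists_hocolim_of_countable
    (hX : ∀ U : X.Opens, IsAffineOpen U → Countable (X.presheaf.obj (op U)))
    {K : DCoh.D X} (hK : DCoh.IsQCohD K)
    (hKc : ∀ V : X.Opens, IsAffineOpen V → ∀ i : ℤ, Countable ((DCoh.HD K i).val.obj (op V))) :
    ∃ (E : ℕ → DCoh.D X) (f : ∀ n, E n ⟶ E (n + 1)) (i : ∀ n, E n ⟶ K),
      (∀ n, DCoh.IsPerfect (E n)) ∧ DerLim.IsHocolim E f K i := by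
  classical
  obtain ⟨G, ⟨hG, -⟩, hgen⟩ := Thomason.hasGen (X := X) Set.univ isClosed_univ (by simp)
  have hGn : ∀ n : ℤ, DCoh.IsPerfect (G⟦n⟧) := fun n => isPerfect_shift hG n
  haveI : ∀ n : ℤ, Countable (G⟦n⟧ ⟶ K) := fun n => countable_hom_of_isPerfect hK hKc (hGn n)
  haveI : Nonempty (Σ n : ℤ, (G⟦n⟧ ⟶ K)) := ⟨⟨0, 0⟩⟩
  obtain ⟨eK, heK⟩ := exists_surjective_nat (Σ n : ℤ, (G⟦n⟧ ⟶ K))
  have enum : ∀ (E : DCoh.D X) (α : E ⟶ K), DCoh.IsPerfect E →
      ∃ e : ℕ → {x : Σ n : ℤ, (G⟦n⟧ ⟶ E) // x.2 ≫ α = 0}, Function.Surjective e := by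
    intro E α hE
    haveI : ∀ n : ℤ, Countable (G⟦n⟧ ⟶ E) := fun n =>
      countable_hom_of_isPerfect (Dual.isQCohD_of_isPerfect hE)
        (fun V hV j => countable_sections_of_isPerfect hX hE j hV) (hGn n)
    haveI : Nonempty {x : Σ n : ℤ, (G⟦n⟧ ⟶ E) // x.2 ≫ α = 0} := ⟨⟨⟨0, 0⟩, zero_comp⟩⟩
    exact exists_surjective_nat _
  obtain ⟨e₀, he₀⟩ := enum (G⟦(0 : ℤ)⟧) (0 : G⟦(0 : ℤ)⟧ ⟶ K) (hGn 0)
  let s₀ : St G K := ⟨G⟦(0 : ℤ)⟧, hGn 0, 0, fun _ k => e₀ k⟩
  have step : ∀ (t : ℕ) (s : St G K), ∃ (s' : St G K) (g : s.E ⟶ s'.E),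
      g ≫ s'.α = s.α ∧
      (∀ m k, m ≤ t → (s'.q m k).1 = ⟨(s.q m k).1.1, (s.q m k).1.2 ≫ g⟩) ∧
      Function.Surjective (s'.q (t + 1)) ∧
      (∀ m k, m ≤ t → k ≤ t → (s.q m k).1.2 ≫ g = 0) ∧
      ∃ h : G⟦(eK t).1⟧ ⟶ s'.E, h ≫ s'.α = (eK t).2 := by
    intro t s
    obtain ⟨E', α', g, hE', hg, hkill⟩ := exists_kill (K := K) hG
      (Finset.range (t + 1) ×ˢ Finset.range (t + 1)) (E := s.E ⊞ G⟦(eK t).1⟧)
      (Thomason.isPerfect_biprod s.perf (hGn _)) (biprod.desc s.α (eK t).2)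
      (fun p => ⟨(s.q p.1 p.2).1.1, (s.q p.1 p.2).1.2 ≫ biprod.inl⟩)
      (fun p => by rw [Category.assoc, biprod.inl_desc]; exact (s.q p.1 p.2).2)
    obtain ⟨e', he'⟩ := enum E' α' hE'
    have hgα : (biprod.inl ≫ g) ≫ α' = s.α := by rw [Category.assoc, hg, biprod.inl_desc]
    refine ⟨⟨E', hE', α', fun m k => if m ≤ t then
        ⟨⟨(s.q m k).1.1, (s.q m k).1.2 ≫ biprod.inl ≫ g⟩,
          by rw [Category.assoc, hgα]; exact (s.q m k).2⟩ else e' k⟩,
      biprod.inl ≫ g, hgα, fun m k hm => ?_, ?_, fun m k hm hk => ?_,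
      ⟨biprod.inr ≫ g, by rw [Category.assoc, hg, biprod.inr_desc]⟩⟩
    · simp only [if_pos hm]
    · have h' : ¬ t + 1 ≤ t := by omega
      simp only [if_neg h']
      exact he'
    · have h := hkill (m, k) (Finset.mem_product.2
        ⟨Finset.mem_range.2 (Nat.lt_succ_of_le hm), Finset.mem_range.2 (Nat.lt_succ_of_le hk)⟩)
      rw [← Category.assoc]
      exact h
  choose next g hgα hpush hsurj hkill h hh using step
  let S : ℕ → St G K := fun n => Nat.rec s₀ (fun t s => next t s) n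
  let E : ℕ → DCoh.D X := fun n => (S n).E
  let f : ∀ n, E n ⟶ E (n + 1) := fun n => g n (S n)
  let i : ∀ n, E n ⟶ K := fun n => (S n).α
  have hfi : ∀ n, f n ≫ i (n + 1) = i n := fun n => hgα n (S n)
  have hEp : ∀ n, DCoh.IsPerfect (E n) := fun n => (S n).perf
  have hEq : ∀ n, DCoh.IsQCohD (E n) := fun n => Dual.isQCohD_of_isPerfect (hEp n)
  have hq : ∀ n, Function.Surjective ((S n).q n) := fun n => by
    cases n with
    | zero => exact he₀
    | succ n => exact hsurj n (S n)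
  obtain ⟨L, d, c, hd⟩ := distinguished_cocone_triangle (𝟙 (∐ E) - DerLim.shiftMap E f)
  let l : ∀ n, E n ⟶ L := fun n => Sigma.ι E n ≫ d
  have hdl : Sigma.desc l = d := Sigma.hom_ext _ _ fun n => Sigma.ι_desc _ _
  have hL : DerLim.IsHocolim E f L l := ⟨c, by rw [hdl]; exact hd⟩
  have hfl : ∀ n, f n ≫ l (n + 1) = l n := Hocolim.comp_eq hL
  obtain ⟨φ, hφ⟩ := Triangle.yoneda_exact₂ _ hd (Sigma.desc i) (by
    show (𝟙 (∐ E) - DerLim.shiftMap E f) ≫ Sigma.desc i = 0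
    refine Sigma.hom_ext _ _ fun n => ?_
    simp [DerLim.shiftMap, hfi])
  change L ⟶ K at φ
  change Sigma.desc i = d ≫ φ at hφ
  have hlφ : ∀ n, l n ≫ φ = i n := fun n => by
    show (Sigma.ι E n ≫ d) ≫ φ = i n
    rw [Category.assoc, ← hφ, Sigma.ι_desc]
  -- surjectivity on maps out of the generator
  have hs : ∀ (n : ℤ) (x : G⟦n⟧ ⟶ K), ∃ y : G⟦n⟧ ⟶ L, y ≫ φ = x := by
    intro n x
    obtain ⟨t, ht⟩ := heK ⟨n, x⟩
    have : ∃ y : G⟦(eK t).1⟧ ⟶ L, y ≫ φ = (eK t).2 :=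
      ⟨h t (S t) ≫ l (t + 1), by rw [Category.assoc, hlφ]; exact hh t (S t)⟩
    rw [ht] at this
    exact this
  -- injectivity
  have key : ∀ (m k T : ℕ), m ≤ T →
      (⟨((S T).q m k).1.1, ((S T).q m k).1.2 ≫ l T⟩ : Σ n : ℤ, (G⟦n⟧ ⟶ L)) =
        ⟨((S m).q m k).1.1, ((S m).q m k).1.2 ≫ l m⟩ := by
    intro m k T hT
    induction T, hT using Nat.le_induction with
    | base => rfl
    | succ T hT ih =>
      rw [← ih]
      have e : ((S (T + 1)).q m k).1 = ⟨((S T).q m k).1.1, ((S T).q m k).1.2 ≫ f T⟩ :=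
        hpush T (S T) m k hT
      refine (congrArg (fun z : Σ n : ℤ, (G⟦n⟧ ⟶ E (T + 1)) =>
        (⟨z.1, z.2 ≫ l (T + 1)⟩ : Σ n : ℤ, (G⟦n⟧ ⟶ L))) e).trans ?_
      simp only [Category.assoc, hfl]
  have hi : ∀ (n : ℤ) (y : G⟦n⟧ ⟶ L), y ≫ φ = 0 → y = 0 := by
    intro n y hy
    obtain ⟨m, a, rfl⟩ := exists_lift hEq hL (hGn n) y
    rw [Category.assoc, hlφ] at hy
    obtain ⟨k, hk⟩ := hq m ⟨⟨n, a⟩, hy⟩
    have h0 : ((S (max m k)).q m k).1.2 ≫ f (max m k) = 0 :=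
      hkill (max m k) (S (max m k)) m k (le_max_left _ _) (le_max_right _ _)
    have h1 := key m k (max m k) (le_max_left _ _)
    rw [hk] at h1
    have h2 : ((S (max m k)).q m k).1.2 ≫ l (max m k) = 0 := by
      rw [← hfl, ← Category.assoc, h0, zero_comp]
    rw [h2] at h1
    obtain ⟨e, he⟩ := Sigma.mk.inj h1
    subst e
    exact (eq_of_heq he).symm
  -- conclusion
  obtain ⟨C, p, w, hC⟩ := distinguished_cocone_triangle φ
  have hLq : DCoh.IsQCohD L :=
    AffineUnit.isQCohD_obj₃ hd (isQCohD_sigma_nat E hEq) (isQCohD_sigma_nat E hEq)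
  have hCq : DCoh.IsQCohD C := AffineUnit.isQCohD_obj₃ hC hLq hK
  have hz : IsZero C := hgen C ⟨hCq, fun j => Set.subset_univ _⟩ fun n x => by
    let e : G⟦n⟧ ≅ (G⟦n - 1⟧)⟦(1 : ℤ)⟧ := (shiftFunctorAdd' (DCoh.D X) (n - 1) 1 n (by omega)).app G
    obtain ⟨y, hy⟩ := (shiftFunctor (DCoh.D X) (1 : ℤ)).map_surjective (e.inv ≫ x ≫ w)
    have hyφ : y ≫ φ = 0 := (shiftFunctor (DCoh.D X) (1 : ℤ)).map_injective (by
      rw [Functor.map_comp, hy, Functor.map_zero, Category.assoc, Category.assoc,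
        show w ≫ (shiftFunctor (DCoh.D X) (1 : ℤ)).map φ = 0 from comp_distTriang_mor_zero₃₁ _ hC,
        comp_zero, comp_zero])
    have hw : x ≫ w = 0 := by
      rw [← cancel_epi e.inv, ← hy, hi _ y hyφ, Functor.map_zero, comp_zero]
    obtain ⟨z, hz⟩ : ∃ z : G⟦n⟧ ⟶ K, x = z ≫ p := Triangle.coyoneda_exact₃ _ hC x hw
    obtain ⟨u, rfl⟩ := hs n z
    rw [hz, Category.assoc, show φ ≫ p = 0 from comp_distTriang_mor_zero₁₂ _ hC, comp_zero]
  haveI : IsIso φ := (Triangle.isZero₃_iff_isIso₁ _ hC).1 hz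
  refine ⟨E, f, i, hEp, inv φ ≫ c, isomorphic_distinguished _ hd _
    (Triangle.isoMk _ _ (Iso.refl _) (Iso.refl _) (asIso φ).symm ?_ ?_ ?_)⟩
  · exact (Category.comp_id _).trans (Category.id_comp _).symm
  · show Sigma.desc i ≫ inv φ = 𝟙 _ ≫ d
    rw [hφ, Category.assoc, IsIso.hom_inv_id, Category.comp_id, Category.id_comp]
  · show (inv φ ≫ c) ≫ (𝟙 (∐ E))⟦(1 : ℤ)⟧' = inv φ ≫ c
    rw [CategoryTheory.Functor.map_id]
    exact Category.comp_id _

end Groth.Agent.H16Derived.CountHom
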