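import Groth.Agent.H16Derived.CountHom.Basic
import Groth.Agent.H16Derived.QCohD.AffineReflect
import Groth.Agent.H16Derived.QCohD.HomVanish
import Groth.Agent.H16Derived.ProjFormula.DQc

/-!
# Sections of the cohomology of perfect objects over countable schemes
-/

set_option autoImplicit false
set_option linter.style.haveILetI false

universe u

open CategoryTheory CategoryTheory.Limits CategoryTheory.Pretriangulated AlgebraicGeometry Opposite

attribute [local instance] HasDerivedCategory.standard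

namespace Groth.Agent.H16Derived.CountHom

open Groth.Agent.H16Derived.QCohD Groth.Agent.H10Coh Groth.Agent.H16Derived.KFlat
open Groth.Agent.H16Derived.KFlat.Stalk

variable {X : Scheme.{u}}

theorem countable_of_exact' (T : Triangle (DCoh.D X)) (hT : T ∈ distTriang (DCoh.D X)) (M : DCoh.D X)
    (h₁ : Countable (M ⟶ T.obj₁)) (h₃ : Countable (M ⟶ T.obj₃)) : Countable (M ⟶ T.obj₂) := by
  classical
  let r : Set.range (fun f : M ⟶ T.obj₂ => f ≫ T.mor₂) → (M ⟶ T.obj₂) := fun x => x.2.choose
  have hr : ∀ x, r x ≫ T.mor₂ = x.1 := fun x => x.2.choose_spec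
  refine Function.Surjective.countable
    (f := fun p : Set.range (fun f : M ⟶ T.obj₂ => f ≫ T.mor₂) × (M ⟶ T.obj₁) => r p.1 + p.2 ≫ T.mor₁)
    fun g => ?_
  obtain ⟨ψ, hψ⟩ := Triangle.coyoneda_exact₂ _ hT (g - r ⟨g ≫ T.mor₂, g, rfl⟩) (by
    rw [Preadditive.sub_comp, hr, sub_self])
  exact ⟨(⟨g ≫ T.mor₂, g, rfl⟩, ψ), by simp [← hψ]⟩

/-- Maps out of shifts of single sheaves. -/
theorem countable_single_shift {F : X.Modules} {Z : DCoh.D X} (n m : ℤ)
    (h : Countable ((DerivedCategory.singleFunctor X.Modules (m + n)).obj F ⟶ Z)) :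
    Countable ((DerivedCategory.singleFunctor X.Modules m).obj F ⟶ Z⟦n⟧) := by
  let e : ((DerivedCategory.singleFunctor X.Modules (m + n)).obj F)⟦n⟧ ≅
      (DerivedCategory.singleFunctor X.Modules m).obj F :=
    ((DerivedCategory.singleFunctors X.Modules).shiftIso n m (m + n) (add_comm n m)).app F
  refine Function.Surjective.countable
    (f := fun f : (DerivedCategory.singleFunctor X.Modules (m + n)).obj F ⟶ Z => e.inv ≫ f⟦n⟧') fun g => ?_
  obtain ⟨f, hf⟩ := (shiftFunctor (DCoh.D X) n).map_surjective (e.hom ≫ g)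
  exact ⟨f, by simp [hf]⟩

/-- Countably many maps out of free sheaves on affines. -/
def CS (Z : DCoh.D X) : Prop :=
  DCoh.IsQCohD Z ∧ ∀ (V : X.Opens), IsAffineOpen V → ∀ m : ℤ,
    Countable ((DerivedCategory.singleFunctor X.Modules m).obj (freeSh V) ⟶ Z)

theorem stable_CS : Stable (CS (X := X)) where
  of_iso e h := ⟨isQCohD_iso e h.1, fun V hV m =>
    @Function.Surjective.countable _ _ (h.2 V hV m) (fun f => f ≫ e.hom)
      fun g => ⟨g ≫ e.inv, by simp⟩⟩
  shift {Z} h n := ⟨HomVanish.isQCohD_shift h.1 n, fun V hV m => countable_single_shift n m (h.2 V hV (m + n))⟩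
  ext₂ T hT h₁ h₃ :=
    ⟨AffineUnit.isQCohD_obj₃ (inv_rot_of_distTriang T hT) (HomVanish.isQCohD_shift h₃.1 (-1)) h₁.1,
      fun V hV m => countable_of_exact' T hT _ (h₁.2 V hV m) (h₃.2 V hV m)⟩
  of_isZero h := ⟨fun i => isQCoh_isZero _ (Functor.map_isZero _ h),
    fun V _ m => @Finite.to_countable _ (@Finite.of_subsingleton _ ⟨fun a b => h.eq_of_tgt a b⟩)⟩

/-- The structure sheaf in one degree. -/
theorem CS_single_structure
    (hX : ∀ V : X.Opens, IsAffineOpen V → Countable (X.presheaf.obj (op V))) (q : ℤ) :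
    CS ((DerivedCategory.singleFunctor X.Modules q).obj (Coh.structureModule X)) := by
  refine ⟨ProjFormula.isQCohD_single_structure X q, fun V hV m => ?_⟩
  let Z := (DerivedCategory.singleFunctor X.Modules q).obj (Coh.structureModule X)
  have hZ : DCoh.IsQCohD Z := ProjFormula.isQCohD_single_structure X q
  haveI : Countable (freeSh V ⟶ DCoh.HD Z m) := by
    rcases eq_or_ne m q with rfl | hm
    · let e : DCoh.HD Z m ≅ Coh.structureModule X := hdSingle _ m
      haveI : Countable Γ(Coh.structureModule X, V) := hX V hV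
      haveI : Countable (freeSh V ⟶ Coh.structureModule X) :=
        (freeShEquiv V (Coh.structureModule X)).injective.countable
      exact Function.Surjective.countable (f := fun f : freeSh V ⟶ Coh.structureModule X => f ≫ e.inv)
        fun g => ⟨g ≫ e.hom, by simp⟩
    · have hz : IsZero (DCoh.HD Z m) := by
        rcases lt_or_gt_of_ne hm with h | h
        · exact DerivedCategory.isZero_of_isGE _ q m h
        · exact DerivedCategory.isZero_of_isLE _ q m h
      exact @Finite.to_countable _ (@Finite.of_subsingleton _ ⟨fun a b => hz.eq_of_tgt a b⟩)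
  exact (bijective_θ_affine hZ hV m).1.countable

/-- Sections of the cohomology near a point with a free model. -/
theorem countable_sections_le {A : X.Opens}
    (hX : ∀ U : X.Opens, IsAffineOpen U → Countable (X.presheaf.obj (op U)))
    {K : DCoh.D X} (hA : FreeModel A.ι K) (i : ℤ) {W : X.Opens} (hW : IsAffineOpen W) (hWA : W ≤ A) :
    Countable Γ(DCoh.HD K i, W) := by
  have hXA : ∀ V : (A : Scheme.{u}).Opens, IsAffineOpen V →
      Countable ((A : Scheme.{u}).presheaf.obj (op V)) := fun V hV =>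
    hX _ (hV.image_of_isOpenImmersion A.ι)
  obtain ⟨E, ⟨a, b, hab⟩, hE, ⟨α⟩⟩ := hA
  have hr : ∀ q, CS ((DerivedCategory.singleFunctor (A : Scheme.{u}).Modules q).obj (E.X q)) := fun q => by
    obtain ⟨n, ⟨en⟩⟩ := hE q
    refine stable_CS.of_iso ((DerivedCategory.singleFunctor _ q).mapIso en.symm) ?_
    exact stable_CS.map_sigma (DerivedCategory.singleFunctor (A : Scheme.{u}).Modules q) n _
      fun _ => CS_single_structure hXA q
  have h : CS ((rd A.ι).obj K) := stable_CS.of_iso α
    (bounded_induction CS (fun e h => stable_CS.of_iso e h) stable_CS.ext₂ (fun Z hZ => stable_CS.of_isZero hZ)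
      (b + 1 - a).toNat a E (fun q hq => hab q (Or.inl hq)) (fun q hq => hab q (Or.inr (by omega))) hr)
  let W' : (A : Scheme.{u}).Opens := A.ι ⁻¹ᵁ W
  have e : A.ι ''ᵁ W' = W := by
    rw [Scheme.Hom.image_preimage_eq_opensRange_inf, Scheme.Opens.opensRange_ι]
    exact inf_eq_right.2 hWA
  have hW' : IsAffineOpen W' := by
    rw [← Scheme.Hom.isAffineOpen_iff_of_isOpenImmersion A.ι, e]
    exact hW
  haveI := h.2 W' hW' i
  haveI : Countable (freeSh W' ⟶ DCoh.HD ((rd A.ι).obj K) i) :=
    (bijective_θ_affine h.1 hW' i).2.countable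
  let c := homologyRdIso A.ι K i
  haveI : Countable (freeSh W' ⟶ (Scheme.Modules.restrictFunctor A.ι).obj (DCoh.HD K i)) :=
    Function.Surjective.countable (f := fun f : freeSh W' ⟶ DCoh.HD ((rd A.ι).obj K) i => f ≫ c.hom)
      fun g => ⟨g ≫ c.inv, by simp⟩
  haveI : Countable Γ((Scheme.Modules.restrictFunctor A.ι).obj (DCoh.HD K i), W') :=
    (freeShEquiv W' _).surjective.countable
  have h' : Countable Γ(DCoh.HD K i, A.ι ''ᵁ W') := ‹_›
  rwa [e] at h'

/-- Over a scheme with countably many functions on affines, perfect objects have countably many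
sections in cohomology. -/
theorem countable_sections_of_isPerfect
    (hX : ∀ U : X.Opens, IsAffineOpen U → Countable (X.presheaf.obj (op U)))
    {K : DCoh.D X} (hK : DCoh.IsPerfect K) (i : ℤ) {V : X.Opens} (hV : IsAffineOpen V) :
    Countable Γ(DCoh.HD K i, V) := by
  classical
  choose A hA hmod using exists_freeModel hK
  have hloc : ∀ x : V, ∃ W : X.Opens, IsAffineOpen W ∧ x.1 ∈ W ∧ W ≤ V ∧ W ≤ A x.1 := fun x => by
    obtain ⟨_, ⟨W, hW, rfl⟩, hxW, hle⟩ :=
      X.isBasis_affineOpens.exists_subset_of_mem_open (show x.1 ∈ (V ⊓ A x.1 : X.Opens) from ⟨x.2, hA _⟩)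
        (V ⊓ A x.1).2
    exact ⟨W, hW, hxW, fun y hy => (hle hy).1, fun y hy => (hle hy).2⟩
  choose W hW hxW hWV hWA using hloc
  obtain ⟨T, hT⟩ := hV.isCompact.elim_finite_subcover (fun x : V => (W x : Set X)) (fun x => (W x).2)
    fun x hx => Set.mem_iUnion.2 ⟨⟨x, hx⟩, hxW _⟩
  let M := DCoh.HD K i
  haveI : ∀ x : T, Countable Γ(M, W x.1) := fun x =>
    countable_sections_le hX (hmod _) i (hW _) (hWA _)
  refine Function.Injective.countable
    (f := fun s : Γ(M, V) => fun x : T => M.presheaf.map (homOfLE (hWV x.1)).op s) fun s t h => ?_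
  refine TopCat.Sheaf.eq_of_locally_eq' ⟨M.presheaf, M.isSheaf⟩ (fun x : T => W x.1) V
    (fun x => homOfLE (hWV _)) (fun y hy => ?_) _ _ fun x => congrFun h x
  obtain ⟨x, hx, hyx⟩ := Set.mem_iUnion₂.1 (hT hy)
  exact TopologicalSpace.Opens.mem_iSup.2 ⟨⟨x, hx⟩, hyx⟩

end Groth.Agent.H16Derived.CountHom
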